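import Cfsg.Agent.Mrg.Omega.NO3S.FarQ.End
import Cfsg.Agent.Mrg.Omega.NO3S.PB.Geom
import Cfsg.Agent.Mrg.Omega.NO3S.FarQ.FOne
import Cfsg.Agent.Mrg.Omega.NO3S.FarQ.NoOvOf
import Cfsg.Agent.Mrg.Omega.NO3S.PLOf
import Cfsg.Agent.Mrg.Omega.Exit.WeakClosed
import Cfsg.Agent.Mrg.Omega.NO3S.ThmB.Main
import Cfsg.Agent.Mrg.Omega.Node.NO3SLevel

-- merged: Cfsg.Agent.Mrg.Omega.NO3S.FarB.End
section

/-!
# NO-3S, natural lines, `q ≥ 4`, the `(R, B)`-frame: `n ≥ 3` is impossible, and `n = 2` is `Single`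
(copy of `FarQ/End.lean`)
-/

set_option autoImplicit false
set_option linter.unusedSectionVars false

namespace Cfsg.Agent.Omega.NO3S.FarB

open Subgroup Cfsg Cfsg.Agent.ZN Cfsg.Agent.MinSimple.VModule Cfsg.Agent.Omega.NOThree.Pts
open Cfsg.Agent.Omega.NO3S.FarQ (FlagK NoOv PSall KNO KPS Img Real RD RD.ext noOver Single PSq Asm.far Asm.mid)
open Cfsg.Agent.Omega.NO3S.FarQ.Glue Cfsg.Agent.Omega.NO3S.PT Cfsg.Agent.Omega.NO3S.PtGeom
open Cfsg.Agent.Omega.NOThree.LemmaM (NoOver)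
open scoped Pointwise

universe u

section

variable {G : Type u} [Group G] [Finite G] {S : Sylow 2 G} {B P V Z : Subgroup G} (h : PB S B P V Z)
include h

/-- an involution centralising a point and fixing another point on a line -/
theorem inv_pt : Plug.Inv (inc (Z := Z) (V := V)) (fun x => x.sg) := by
  intro x y m hx hy hne g hg hgx hgy
  exact h.inv_fix m.isCj x.isCj hx y.isCj hy (fun e => hne (Pt.ext e)) hg
    (fun u hu => (mem_centralizer_iff.1 hgx u hu).symm) (congrArg Pt.sg hgy)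

variable (hO : OmB B V) (hq : 4 ≤ Nat.card Z) (hNO : KNO.{u} (fun H _ => Img (centralizer (Z : Set G)) H))
  (hPS : KPS.{u} (fun H _ => Img (centralizer (Z : Set G)) H))
include hO hq hNO hPS

/-- **FarQ: there is no critical pair at distance `n ≥ 3`.** -/
theorem far_false {n : ℕ} (hn : 3 ≤ n) {x y : Pt Z}
    (hc : Crit (inc (Z := Z) (V := V)) (fun x : Pt Z => ws V x.sg) n x y) : False := by
  have hf := hf_of_kin h hq (by omega) hc hNO hPS
  have D := PB.Geom.geom h hf hO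
  obtain ⟨H, M, K, iH, iM, iA, iK, ρ, π, ζ, T, lam, U, Kh, F⟩ := exists_rd h hf hO hq
  have hI : Img (centralizer (Z : Set G)) H :=
    ⟨MonoidHom.mk' (fun a => ρ a) (fun a b => F.re.mul a a.2 b b.2), fun x => by
      obtain ⟨g, hg, rfl⟩ := F.re.surj x
      exact ⟨⟨g, hg⟩, rfl⟩⟩
  obtain ⟨Pi, hPi⟩ := hPS H M K T lam hI F.flag.toK F.flag.sqR F.flag.cardR
  obtain ⟨κ, E⟩ := F.ext
  have hflag : ∀ (p' : Pt Z) (l' : Pt V), inc p' l' → ∃ g : G, p' = g • Pt.base Z ∧ l' = g • Pt.base V :=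
    fun p' l' hp => exists_smul_flag h hp
  refine FarQ.Asm.far D hn (noOver D F.toRF hflag (hNO H M T lam hI F.flag.toK)) ?_ hc
  by_cases hs : Single Pi lam
  · exact Or.inr (FarQ.Plug.sp D F.toRF hflag F.flag hPi.toPSq hs)
  · exact Or.inl (Plug.ns D F.toRF hflag F.flag hPi.toPSq E (inv_pt h) (by omega) hs)

omit hPS in
/-- **MidQ: for `n = 2` the blocks are `Single`.** -/
theorem mid_single (hf : ¬ kx V Z ≤ centralizer (V : Set G)) {x y : Pt Z}
    (hc : Crit (inc (Z := Z) (V := V)) (fun x : Pt Z => ws V x.sg) 2 x y)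
    {H M K : Type u} [Group H] [CommGroup M] [MulDistribMulAction H M] [CommGroup K] {ρ : G → H} {π : G → M}
    {ζ : K →* G} {T : Subgroup H} {lam U : Subgroup M} {Kh : Subgroup (M →* K)}
    (F : RD (inc (Z := Z) (V := V)) (fun x => x.sg) (fun x => ws V x.sg) (fun l => l.sg) (Pt.base Z) (Pt.base V)
        B ρ π ζ T lam U Kh) {Pi : Set (Subgroup H)} (hPi : PSq K T lam Pi) : Single Pi lam := by
  by_contra hs
  have D := PB.Geom.geom h hf hO
  have hI : Img (centralizer (Z : Set G)) H :=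
    ⟨MonoidHom.mk' (fun a => ρ a) (fun a b => F.re.mul a a.2 b b.2), fun x => by
      obtain ⟨g, hg, rfl⟩ := F.re.surj x
      exact ⟨⟨g, hg⟩, rfl⟩⟩
  obtain ⟨κ, E⟩ := F.ext
  have hflag : ∀ (p' : Pt Z) (l' : Pt V), inc p' l' → ∃ g : G, p' = g • Pt.base Z ∧ l' = g • Pt.base V :=
    fun p' l' hp => exists_smul_flag h hp
  exact FarQ.Asm.mid D (noOver D F.toRF hflag (hNO H M T lam hI F.flag.toK))
    (Plug.ns D F.toRF hflag F.flag hPi E (inv_pt h) le_rfl hs) hc

end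

end Cfsg.Agent.Omega.NO3S.FarB

end

-- merged: Cfsg.Agent.Mrg.Omega.NO3S.FarQ.Node
section

/-!
# NO-3S, natural lines, `q ≥ 4`: the socket `FarQ`, and the front of `MidQ`

* `farQ` : `FarQ K` from (ML) (`MLK`) and the K-input on the blocks (`KPS` for K-groups);
* `midQ_front` : for `n = 2`: `PL`, (F1), (T6), the realised flag `RD`, the blocks `PSall` and `Single`.
-/

set_option autoImplicit false
set_option linter.unusedSectionVars false

namespace Cfsg.Agent.Omega.NO3S.FarQ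

open Subgroup Cfsg Cfsg.Agent.ZN Cfsg.Agent.MinSimple.VModule Cfsg.Agent.Omega.NOThree.Pts
open Cfsg.Agent.Omega.NO3S.FarQ.Glue Cfsg.Agent.Omega.NO3S.PT Cfsg.Agent.Omega.NO3S.PtGeom
open Cfsg.Agent.Omega.ML.Final (MLK)
open Cfsg.Agent.Omega.MinPar Cfsg.Agent.Omega.Frame Cfsg.Agent.Omega.FrameNOFF Cfsg.Agent.Omega.NatPair
open scoped Pointwise

universe u

variable {G : Type u} [Group G] [Finite G] {S : Sylow 2 G} {P : Subgroup G}

/-- `C_G(Z)` is a proper subgroup. -/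
theorem centralizer_zc_ne_top (h : Hyp S P) : centralizer (zc (S : Subgroup G) : Set G) ≠ ⊤ := by
  intro htop
  have := h.ctx.simple
  have hZ : zc (S : Subgroup G) ≤ center G := by
    intro z hz
    rw [mem_center_iff]
    intro g
    have hg : g ∈ centralizer (zc (S : Subgroup G) : Set G) := by rw [htop]; exact mem_top g
    exact (mem_centralizer_iff.1 hg z hz).symm
  rcases (inferInstance : (center G).Normal).eq_bot_or_eq_top with h1 | h1
  · exact h.zc_ne (le_bot_iff.1 (hZ.trans h1.le))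
  · apply h.ctx.nonComm
    refine ⟨⟨fun a b => ?_⟩⟩
    have hb : b ∈ center G := by rw [h1]; exact mem_top b
    exact mem_center_iff.1 hb a

variable {F : Type*} [Field F] [Finite F] [CharP F 2]

/-- the K-inputs for `C_G(Z)` -/
theorem inputs (h : Hyp S P) (hML : MLK.{u, u}) (hPS : KPS.{u} (fun H _ => IsKGroup H)) :
    KNO.{u} (fun H _ => Img (centralizer (zc (S : Subgroup G) : Set G)) H) ∧
      KPS.{u} (fun H _ => Img (centralizer (zc (S : Subgroup G) : Set G)) H) :=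
  ⟨(kno_of_mlk hML).mono fun H _ hI => kgroup_of_img h.ctx.kproper (centralizer_zc_ne_top h) H hI,
    hPS.mono fun H _ hI => kgroup_of_img h.ctx.kproper (centralizer_zc_ne_top h) H hI⟩

/-- **The socket `FarQ`** from (ML) and the K-input on the blocks. -/
theorem farQ {K : Cls.{u}} (hML : MLK.{u, u}) (hPS : KPS.{u} (fun H _ => IsKGroup H)) : FarQ K := by
  intro G _ _ _ S P h F _ _ _ hF M hZ hU n y hn hc
  exfalso
  obtain ⟨h1, -⟩ := pl_of_uniq h.toHypN.toHyp hU M hZ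
  obtain ⟨h2, h3⟩ := inputs h.toHypN.toHyp hML hPS
  exact far_false h1 (omQ_of_hypJ h h1) (hU.ns h.star) (hZ.symm ▸ hF) h2 h3 hn (PtGeom.crit h1 rfl hc)

/-- **The front of `MidQ`.** -/
theorem midQ_front (hML : MLK.{u, u}) (hPS : KPS.{u} (fun H _ => IsKGroup H)) (h : HypJ S P)
    (hU : Uniq (S : Subgroup G) P) (hF : 4 ≤ Nat.card F) (M : NatP F (zl (S : Subgroup G) P) P)
    (hZ : Nat.card (zc (S : Subgroup G)) = Nat.card F) {n : ℕ} (hn : 1 ≤ n) {y : G}
    (hc : CritN (S : Subgroup G) P n 1 y) :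
    PL S P (zl (S : Subgroup G) P) (zc (S : Subgroup G)) ∧ OmQ S (zl (S : Subgroup G) P) ∧
      ¬ kx (zl (S : Subgroup G) P) (zc (S : Subgroup G)) ≤ centralizer (zl (S : Subgroup G) P : Set G) := by
  obtain ⟨h1, -⟩ := pl_of_uniq h.toHypN.toHyp hU M hZ
  obtain ⟨h2, h3⟩ := inputs h.toHypN.toHyp hML hPS
  exact ⟨h1, omQ_of_hypJ h h1, hf_of_kin h1 (hU.ns h.star) (hZ.symm ▸ hF) hn (PtGeom.crit h1 rfl hc) h2 h3⟩

/-- **`MidQ` is `Single`.** -/
theorem midQ_single (hML : MLK.{u, u}) (hPS : KPS.{u} (fun H _ => IsKGroup H)) (h : HypJ S P)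
    (hU : Uniq (S : Subgroup G) P) (hF : 4 ≤ Nat.card F) (M : NatP F (zl (S : Subgroup G) P) P)
    (hZ : Nat.card (zc (S : Subgroup G)) = Nat.card F) {y : G} (hc : CritN (S : Subgroup G) P 2 1 y) :
    ∃ (H M K : Type u) (_ : Group H) (_ : CommGroup M) (_ : MulDistribMulAction H M) (_ : CommGroup K)
      (ρ : G → H) (π : G → M) (ζ : K →* G) (T : Subgroup H) (lam U : Subgroup M) (Kh : Subgroup (M →* K))
      (Pi : Set (Subgroup H)),
      RD (PtGeom.inc (Z := zc (S : Subgroup G)) (V := zl (S : Subgroup G) P)) (fun x => x.sg)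
        (fun x => ws (zl (S : Subgroup G) P) x.sg) (fun l => l.sg) (Pt.base _) (Pt.base _)
        (S : Subgroup G) ρ π ζ T lam U Kh ∧ PSall K T lam Pi ∧ NoOv (H := H) lam ∧ IsKGroup H ∧
        Single Pi lam := by
  obtain ⟨h1, hO, hf⟩ := midQ_front hML hPS h hU hF M hZ (by norm_num) hc
  obtain ⟨h2, h3⟩ := inputs h.toHypN.toHyp hML hPS
  obtain ⟨H, M', K, iH, iM, iA, iK, ρ, π, ζ, T, lam, U, Kh, D⟩ :=
    exists_rd h1 hf hO (hU.ns h.star) (hZ.symm ▸ hF)
  have hI : Img (centralizer (zc (S : Subgroup G) : Set G)) H :=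
    ⟨MonoidHom.mk' (fun a => ρ a) (fun a b => D.re.mul a a.2 b b.2), fun x => by
      obtain ⟨g, hg, rfl⟩ := D.re.surj x
      exact ⟨⟨g, hg⟩, rfl⟩⟩
  obtain ⟨Pi, hPi⟩ := h3 H M' K T lam hI D.flag.toK D.flag.sqR D.flag.cardR
  exact ⟨H, M', K, iH, iM, iA, iK, ρ, π, ζ, T, lam, U, Kh, Pi, D, hPi, h2 H M' T lam hI D.flag.toK,
    kgroup_of_img h.ctx.kproper (centralizer_zc_ne_top h.toHypN.toHyp) H hI,
    mid_single h1 hO (hU.ns h.star) (hZ.symm ▸ hF) h2 hf (PtGeom.crit h1 rfl hc) D hPi.toPSq⟩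

end Cfsg.Agent.Omega.NO3S.FarQ

end

-- merged: Cfsg.Agent.Mrg.Omega.NO3S.FarB.Node
section

/-!
# NO-3S, natural lines, `q ≥ 4`: the socket `FarB`, and the front of `MidB`

* `farB` : `FarB K` from (ML) (`MLK`) and the K-input on the blocks (`KPS` for K-groups);
* `front` : for a critical pair at distance `n ≥ 1`: (F1); `mid_front` : for `n = 2` the realised flag `RD`, the blocks
  `PSall` and `Single`.
-/

set_option autoImplicit false
set_option linter.unusedSectionVars false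

namespace Cfsg.Agent.Omega.NO3S.FarB

open Subgroup Cfsg Cfsg.Agent.ZN Cfsg.Agent.MinSimple.VModule Cfsg.Agent.Omega.NOThree.Pts
open Cfsg.Agent.Omega.NO3S.FarQ (FlagK NoOv PSall KNO KPS Img Real RD Single PSq kno_of_mlk centralizer_zc_ne_top)
open Cfsg.Agent.Omega.NO3S.FarQ.Glue Cfsg.Agent.Omega.NO3S.PT Cfsg.Agent.Omega.NO3S.PtGeom
open Cfsg.Agent.Omega.ML.Final (MLK)
open Cfsg.Agent.Omega.MinPar Cfsg.Agent.Omega.Frame Cfsg.Agent.Omega.FrameNOFF Cfsg.Agent.Omega.NatPair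
open scoped Pointwise

universe u

variable {G : Type u} [Group G] [Finite G] {S : Sylow 2 G} {P B R : Subgroup G}

/-- `C_G(R)` is a proper subgroup. -/
theorem centralizer_ne_top (h : Hyp S P) (hR : R ≠ ⊥) : centralizer (R : Set G) ≠ ⊤ := by
  intro htop
  have := h.ctx.simple
  have hZ : R ≤ center G := by
    intro z hz
    rw [mem_center_iff]
    intro g
    have hg : g ∈ centralizer (R : Set G) := by rw [htop]; exact mem_top g
    exact (mem_centralizer_iff.1 hg z hz).symm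
  rcases (inferInstance : (center G).Normal).eq_bot_or_eq_top with h1 | h1
  · exact hR (le_bot_iff.1 (hZ.trans h1.le))
  · apply h.ctx.nonComm
    refine ⟨⟨fun a b => ?_⟩⟩
    have hb : b ∈ center G := by rw [h1]; exact mem_top b
    exact mem_center_iff.1 hb a

/-- the K-inputs for `C_G(R)` -/
theorem inputs (h : Hyp S P) (hR : R ≠ ⊥) (hML : MLK.{u, u}) (hPS : KPS.{u} (fun H _ => IsKGroup H)) :
    KNO.{u} (fun H _ => Img (centralizer (R : Set G)) H) ∧
      KPS.{u} (fun H _ => Img (centralizer (R : Set G)) H) :=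
  ⟨(kno_of_mlk hML).mono fun H _ hI => FarQ.kgroup_of_img h.ctx.kproper (centralizer_ne_top h hR) H hI,
    hPS.mono fun H _ hI => FarQ.kgroup_of_img h.ctx.kproper (centralizer_ne_top h hR) H hI⟩

/-- no critical pair at distance `n ≥ 3` -/
theorem far (hML : MLK.{u, u}) (hPS : KPS.{u} (fun H _ => IsKGroup H)) (h : Hyp S P)
    (hp : PB S B P (zl (S : Subgroup G) P) R) (hO : OmB B (zl (S : Subgroup G) P)) (hq : 4 ≤ Nat.card R) {n : ℕ}
    (hn : 3 ≤ n) {y : G} (hc : NoFF.Lines.Crit R (normalizer (R : Set G)) {P} n 1 y) : False := by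
  obtain ⟨h2, h3⟩ := inputs h hp.Zne hML hPS
  exact far_false hp hO hq h2 h3 hn (PB.Geom.crit hp hp.V_eq hc)

/-- **The socket `FarB`** from (ML) and the K-input on the blocks. -/
theorem farB {K : Cls.{u}} (hML : MLK.{u, u}) (hPS : KPS.{u} (fun H _ => IsKGroup H)) : NO3S.FarB K := by
  intro G _ _ _ S P h F _ _ _ hF _ B R hB n y hn hc
  exact (far hML hPS h.toHyp hB.pb hB.om (hB.card.symm ▸ hF) hn hc).elim

/-- **(F1)**: the front of `MidB`, `OneB`. -/
theorem front (hML : MLK.{u, u}) (hPS : KPS.{u} (fun H _ => IsKGroup H)) (h : Hyp S P)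
    (hp : PB S B P (zl (S : Subgroup G) P) R) (hq : 4 ≤ Nat.card R) {n : ℕ}
    (hn : 1 ≤ n) {y : G} (hc : NoFF.Lines.Crit R (normalizer (R : Set G)) {P} n 1 y) :
    ¬ kx (zl (S : Subgroup G) P) R ≤ centralizer (zl (S : Subgroup G) P : Set G) := by
  obtain ⟨h2, h3⟩ := inputs h hp.Zne hML hPS
  exact hf_of_kin hp hq hn (PB.Geom.crit hp hp.V_eq hc) h2 h3

/-- **`MidB` is `Single`.** -/
theorem mid_front (hML : MLK.{u, u}) (hPS : KPS.{u} (fun H _ => IsKGroup H)) (h : Hyp S P)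
    (hp : PB S B P (zl (S : Subgroup G) P) R) (hO : OmB B (zl (S : Subgroup G) P)) (hq : 4 ≤ Nat.card R)
    {y : G} (hc : NoFF.Lines.Crit R (normalizer (R : Set G)) {P} 2 1 y) :
    ∃ (H M K : Type u) (_ : Group H) (_ : CommGroup M) (_ : MulDistribMulAction H M) (_ : CommGroup K)
      (ρ : G → H) (π : G → M) (ζ : K →* G) (T : Subgroup H) (lam U : Subgroup M) (Kh : Subgroup (M →* K))
      (Pi : Set (Subgroup H)),
      RD (PtGeom.inc (Z := R) (V := zl (S : Subgroup G) P)) (fun x => x.sg)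
        (fun x => ws (zl (S : Subgroup G) P) x.sg) (fun l => l.sg) (Pt.base _) (Pt.base _)
        B ρ π ζ T lam U Kh ∧ PSall K T lam Pi ∧ NoOv (H := H) lam ∧ IsKGroup H ∧ Single Pi lam := by
  obtain ⟨h2, h3⟩ := inputs h hp.Zne hML hPS
  have hf := front hML hPS h hp hq (by norm_num) hc
  obtain ⟨H, M', K, iH, iM, iA, iK, ρ, π, ζ, T, lam, U, Kh, D⟩ := exists_rd hp hf hO hq
  have hI : Img (centralizer (R : Set G)) H :=
    ⟨MonoidHom.mk' (fun a => ρ a) (fun a b => D.re.mul a a.2 b b.2), fun x => by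
      obtain ⟨g, hg, rfl⟩ := D.re.surj x
      exact ⟨⟨g, hg⟩, rfl⟩⟩
  obtain ⟨Pi, hPi⟩ := h3 H M' K T lam hI D.flag.toK D.flag.sqR D.flag.cardR
  exact ⟨H, M', K, iH, iM, iA, iK, ρ, π, ζ, T, lam, U, Kh, Pi, D, hPi, h2 H M' T lam hI D.flag.toK,
    FarQ.kgroup_of_img h.ctx.kproper (centralizer_ne_top h hp.Zne) H hI,
    mid_single hp hO hq h2 hf (PB.Geom.crit hp hp.V_eq hc) D hPi.toPSq⟩

end Cfsg.Agent.Omega.NO3S.FarB

end
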